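import Cfsg.Agent.PiHom72.Basic
import Cfsg.Agent.S0877

/-!
# A π-homogeneous D_π group has a normal π-complement
-/

set_option autoImplicit false

namespace Cfsg.Agent.PiHom72

open Subgroup

universe u

variable {π : Set ℕ}

theorem hom_subgroup {G : Type u} [Group G] [Finite G] (hG : Hom π G) (M : Subgroup G) :
    Hom π ↥M := by
  intro Q hQ1 hQπ r hr hd
  set Q' := Q.map M.subtype with hQ'
  refine hG Q' (fun h => hQ1 ?_) (fun s hs hsd => hQπ s hs ?_) r hr (hd.trans ?_)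
  · exact (Subgroup.map_eq_bot_iff_of_injective _ M.subtype_injective).mp h
  · rwa [hQ', Subgroup.card_map_of_injective M.subtype_injective] at hsd
  set C := centralizer (Q' : Set G) with hC
  set N := normalizer (Q' : Set G) with hN
  have hC' : centralizer (Q : Set ↥M) = C.comap M.subtype := by
    ext x
    simp only [hC, hQ', Subgroup.mem_centralizer_iff, Subgroup.mem_comap, SetLike.mem_coe,
      Subgroup.mem_map, Subgroup.coe_subtype, forall_exists_index, and_imp]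
    constructor
    · rintro h _ q hq rfl
      exact congrArg Subtype.val (h q hq)
    · exact fun h q hq => Subtype.ext (h _ q hq rfl)
  have hN' : (normalizer (Q : Set ↥M)).map M.subtype ≤ N := Subgroup.le_normalizer_map _
  haveI : (C.subgroupOf N).Normal :=
    ⟨fun x hx y => conj_mem_centralizer (g := (y : G)) y.2 hx⟩
  rw [hC', Subgroup.relIndex_comap]
  rw [← Subgroup.relIndex_subgroupOf hN']
  exact Subgroup.relIndex_dvd_index_of_normal _ _

theorem dom_centralizer {G : Type u} [Group G] [Finite G] {H : Subgroup G} {p : ℕ} [Fact p.Prime]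
    (hpπ : p ∈ π) (hD : Dom π H) (hG : Hom π G) {a : G} (ha : a ∈ H)
    (hp : ∃ k : ℕ, orderOf a = p ^ k) :
    Dom π (H.subgroupOf (centralizer ({a} : Set G))) := by
  set M := centralizer ({a} : Set G) with hM
  have haM : a ∈ M := mem_centralizer_singleton_iff.mpr rfl
  refine ⟨fun r hr hd => ?_, fun K hK => ?_⟩
  · have he : Nat.card (H.subgroupOf M) = Nat.card (H ⊓ M : Subgroup G) := by
      rw [← Subgroup.card_map_of_injective M.subtype_injective, Subgroup.subgroupOf_map_subtype]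
    rw [he] at hd
    exact hD.1 r hr (hd.trans (Subgroup.card_dvd_of_le inf_le_left))
  -- `⟨a⟩ K` is a π-group
  set K' := K.map M.subtype with hK'
  set A := Subgroup.zpowers a with hA
  have hAπ : Cfsg.IsPiSubgroup π A := by
    obtain ⟨k, hk⟩ := hp
    intro r hr hd
    rw [hA, Nat.card_zpowers, hk] at hd
    exact (Nat.prime_dvd_prime_iff_eq hr Fact.out).mp (hr.dvd_of_dvd_pow hd) ▸ hpπ
  have hK'π : Cfsg.IsPiSubgroup π K' := fun r hr hd => hK r hr (by
    rwa [hK', Subgroup.card_map_of_injective M.subtype_injective] at hd)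
  have hcent : K' ≤ normalizer (A : Set G) := fun k hk => mem_normalizer_of_forall fun x hx => by
    obtain ⟨n, rfl⟩ := Subgroup.mem_zpowers_iff.mp hx
    have hkM : k ∈ M := Subgroup.map_subtype_le K hk
    have hc : Commute k a := (mem_centralizer_singleton_iff.mp hkM)
    rw [(hc.zpow_right n).eq, mul_inv_cancel_right]
    exact hx
  have hJ : Cfsg.IsPiSubgroup π (K' ⊔ A) := by
    intro r hr hd
    haveI : (A.subgroupOf (K' ⊔ A)).Normal :=
      Subgroup.normal_subgroupOf_sup_of_le_normalizer hcent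
    rw [← Subgroup.card_mul_index (A.subgroupOf (K' ⊔ A))] at hd
    rcases hr.dvd_mul.mp hd with h | h
    · rw [Nat.card_congr (Subgroup.subgroupOfEquivOfLe le_sup_right).toEquiv] at h
      exact hAπ r hr h
    · refine hK'π r hr (h.trans ?_)
      have h2 := Subgroup.relIndex_sup_right (H := K'.subgroupOf (K' ⊔ A))
        (K := A.subgroupOf (K' ⊔ A))
      rw [← Subgroup.subgroupOf_sup le_sup_left le_sup_right, Subgroup.subgroupOf_self,
        Subgroup.relIndex_top_right] at h2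
      rw [h2]
      exact (Subgroup.relIndex_dvd_card _ _).trans
        (Nat.card_congr (Subgroup.subgroupOfEquivOfLe le_sup_left).toEquiv).dvd
  obtain ⟨g, hg⟩ := hD.2 _ hJ
  have hga : g * a * g⁻¹ ∈ H :=
    cj_le_iff.mp hg a (Subgroup.mem_sup_right (Subgroup.mem_zpowers a))
  obtain ⟨h, hh, hha⟩ := fusion_pElement hpπ hD hG ha hga hp
  have hcM : h⁻¹ * g ∈ M := by
    refine mem_centralizer_singleton_iff.mpr ?_
    calc h⁻¹ * g * a = h⁻¹ * (g * a * g⁻¹) * g := by group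
      _ = h⁻¹ * (h * a * h⁻¹) * g := by rw [hha]
      _ = a * (h⁻¹ * g) := by group
  refine ⟨⟨h⁻¹ * g, hcM⟩, cj_le_iff.mpr fun k hk => Subgroup.mem_subgroupOf.mpr ?_⟩
  have h3 := H.mul_mem (H.mul_mem (H.inv_mem hh)
    (cj_le_iff.mp hg (k : G) (Subgroup.mem_sup_left ⟨k, hk, rfl⟩))) hh
  simpa [mul_assoc] using h3

/-- Elements of `H` conjugate in `G` are conjugate in `H`. -/
theorem fusion_element : ∀ (n : ℕ) (G : Type u) [Group G] [Finite G] (H : Subgroup G),
    Dom π H → Hom π G → ∀ x g : G, orderOf x = n → x ∈ H → g * x * g⁻¹ ∈ H →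
      ∃ h ∈ H, h * x * h⁻¹ = g * x * g⁻¹ := by
  intro n
  induction n using Nat.strong_induction_on with
  | h n ih =>
  intro G _ _ H hD hG x g hn hx hgx
  subst hn
  by_cases hx1 : x = 1
  · exact ⟨1, H.one_mem, by simp [hx1]⟩
  have hord1 : orderOf x ≠ 1 := fun h => hx1 (orderOf_eq_one_iff.mp h)
  set p := (orderOf x).minFac
  have hp : p.Prime := Nat.minFac_prime hord1
  haveI : Fact p.Prime := ⟨hp⟩
  have hpπ : p ∈ π := hD.1 p hp ((Nat.minFac_dvd _).trans
    (Subgroup.orderOf_mk (G := G) x hx ▸ orderOf_dvd_natCard (⟨x, hx⟩ : H)))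
  set e := (orderOf x).factorization p
  set r := orderOf x / p ^ e
  have hdr : p ^ e * r = orderOf x := Nat.ordProj_mul_ordCompl_eq_self (orderOf x) p
  have hr0 : 0 < r := Nat.pos_of_ne_zero fun h => (orderOf_pos x).ne' (by rw [← hdr, h, mul_zero])
  have he0 : e ≠ 0 := (hp.factorization_pos_of_dvd (orderOf_pos x).ne' (Nat.minFac_dvd _)).ne'
  have hcop : (p ^ e).Coprime r :=
    Nat.Coprime.pow_left _ (Nat.coprime_ordCompl hp (orderOf_pos x).ne')
  obtain ⟨u, hu1, hu2⟩ := Nat.chineseRemainder hcop 1 0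
  obtain ⟨v, hv1, hv2⟩ := Nat.chineseRemainder hcop 0 1
  have hruv : x ^ u * x ^ v = x := by
    rw [← pow_add]
    conv_rhs => rw [← pow_one x]
    refine pow_eq_pow_iff_modEq.mpr ?_
    rw [← hdr]
    exact (Nat.modEq_and_modEq_iff_modEq_mul hcop).mp ⟨hu1.add hv1, hu2.add hv2⟩
  have hap : ∃ k : ℕ, orderOf (x ^ u) = p ^ k := by
    have h1 : (x ^ u) ^ p ^ e = 1 := by
      rw [← pow_mul, ← orderOf_dvd_iff_pow_eq_one, ← hdr, mul_comm (p ^ e) r]
      exact Nat.mul_dvd_mul (Nat.modEq_zero_iff_dvd.mp hu2) dvd_rfl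
    obtain ⟨k, -, hk⟩ := (Nat.dvd_prime_pow hp).mp (orderOf_dvd_of_pow_eq_one h1)
    exact ⟨k, hk⟩
  have hlt : orderOf (x ^ v) < orderOf x := by
    have h1 : orderOf (x ^ v) ∣ r := orderOf_dvd_of_pow_eq_one (by
      rw [← pow_mul, ← orderOf_dvd_iff_pow_eq_one, ← hdr]
      exact Nat.mul_dvd_mul (Nat.modEq_zero_iff_dvd.mp hv1) dvd_rfl)
    refine lt_of_le_of_lt (Nat.le_of_dvd hr0 h1) ?_
    rw [← hdr]
    exact lt_mul_of_one_lt_left hr0 (Nat.one_lt_pow he0 hp.one_lt)
  set a := x ^ u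
  set b := x ^ v
  have haH : a ∈ H := H.pow_mem hx u
  have hbH : b ∈ H := H.pow_mem hx v
  have hgaH : g * a * g⁻¹ ∈ H := by rw [← conj_pow]; exact H.pow_mem hgx u
  have hgbH : g * b * g⁻¹ ∈ H := by rw [← conj_pow]; exact H.pow_mem hgx v
  obtain ⟨h, hh, hha⟩ := fusion_pElement hpπ hD hG haH hgaH hap
  set M := centralizer ({a} : Set G)
  have hbM : b ∈ M := mem_centralizer_singleton_iff.mpr ((Commute.pow_pow_self x v u).eq)
  have hgM : h⁻¹ * g ∈ M := by
    refine mem_centralizer_singleton_iff.mpr ?_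
    calc h⁻¹ * g * a = h⁻¹ * (g * a * g⁻¹) * g := by group
      _ = h⁻¹ * (h * a * h⁻¹) * g := by rw [hha]
      _ = a * (h⁻¹ * g) := by group
  obtain ⟨⟨h', hh'M⟩, hh'H, hh'⟩ := ih _ hlt ↥M (H.subgroupOf M)
    (dom_centralizer hpπ hD hG haH hap) (hom_subgroup hG M) ⟨b, hbM⟩ ⟨h⁻¹ * g, hgM⟩
    (Subgroup.orderOf_mk _ _) (Subgroup.mem_subgroupOf.mpr hbH)
    (Subgroup.mem_subgroupOf.mpr (by
      have := H.mul_mem (H.mul_mem (H.inv_mem hh) hgbH) hh
      simpa [mul_assoc] using this))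
  have hb' : h' * b * h'⁻¹ = h⁻¹ * g * b * (h⁻¹ * g)⁻¹ := congrArg Subtype.val hh'
  have ha' : h' * a * h'⁻¹ = a := by
    rw [mem_centralizer_singleton_iff.mp hh'M, mul_inv_cancel_right]
  refine ⟨h * h', H.mul_mem hh (Subgroup.mem_subgroupOf.mp hh'H), ?_⟩
  rw [← hruv]
  calc h * h' * (a * b) * (h * h')⁻¹ = h * ((h' * a * h'⁻¹) * (h' * b * h'⁻¹)) * h⁻¹ := by group
    _ = (h * a * h⁻¹) * (h * (h⁻¹ * g * b * (h⁻¹ * g)⁻¹) * h⁻¹) := by rw [ha', hb']; group
    _ = g * (a * b) * g⁻¹ := by rw [hha]; group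

theorem dom_of_maximal {G : Type u} [Group G] [Finite G] (hD : Cfsg.IsDPiGroup π G) :
    ∃ H : Subgroup G, Dom π H := by
  have hbot : Cfsg.IsPiSubgroup π (⊥ : Subgroup G) := fun r hr hd => by
    rw [Subgroup.card_bot] at hd
    exact absurd hd hr.not_dvd_one
  obtain ⟨H, -, hH⟩ := Finite.exists_le_maximal (p := Cfsg.IsPiSubgroup π) hbot
  refine ⟨H, hH.1, fun K hK => ?_⟩
  obtain ⟨K', hKK', hK'⟩ := Finite.exists_le_maximal (p := Cfsg.IsPiSubgroup π) hK
  obtain ⟨g, hg⟩ := hD K' H hK' hH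
  exact ⟨g, (Subgroup.map_mono hKK').trans hg.ge⟩

/-- A π-homogeneous group with the D_π property is π'-closed. -/
theorem exists_compl_set {G : Type u} [Group G] [Finite G] (hD : Cfsg.IsDPiGroup π G)
    (hG : Hom π G) :
    ∃ K : Subgroup G, ∀ x : G, x ∈ K ↔ ∀ p : ℕ, p.Prime → p ∣ orderOf x → p ∉ π := by
  obtain ⟨H, hH⟩ := dom_of_maximal hD
  have hidx : ∀ p : ℕ, p.Prime → p ∈ π → ¬ p ∣ H.index := by
    intro p hp hpπ
    haveI : Fact p.Prime := ⟨hp⟩
    obtain ⟨P, hPH, -, hPi⟩ := exists_sylow_le hpπ hH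
    exact fun h => hPi (h.trans (Subgroup.index_dvd_of_le hPH))
  have hcop : Nat.Coprime (Nat.card H) H.index :=
    Nat.coprime_of_dvd fun p hp h1 h2 => hidx p hp (hH.1 p hp h1) h2
  obtain ⟨K, hKn, hKsup, hKinf⟩ := S0877.result H hcop
    (fun x hx y hy hxy => by
      obtain ⟨c, hc⟩ := isConj_iff.mp hxy
      obtain ⟨h, hh, he⟩ := fusion_element (π := π) _ G H hH hG x c rfl hx (hc ▸ hy)
      exact ⟨h, hh, he.trans hc⟩)
    (fun E p _ _ hd => hH.2 E fun r hr hrd => hH.1 r hr (hrd.trans hd))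
  haveI := hKn
  have hcompl : Subgroup.IsComplement' K H :=
    Subgroup.isComplement'_of_disjoint_and_mul_eq_univ (disjoint_iff.mpr hKinf)
      (by rw [← Subgroup.coe_mul_of_right_le_normalizer_left K H
        (le_top.trans (Subgroup.normalizer_eq_top_iff.mpr hKn).ge)]; simp [hKsup])
  have hKcard : Nat.card K = H.index := hcompl.index_eq_card.symm
  refine ⟨K, fun x => ⟨fun hx p hp hd hpπ => hidx p hp hpπ ?_, fun hx => ?_⟩⟩
  · rw [← hKcard]
    exact hd.trans (Subgroup.orderOf_mk (G := G) x hx ▸ orderOf_dvd_natCard (⟨x, hx⟩ : K))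
  · rw [← QuotientGroup.eq_one_iff (N := K) x, ← orderOf_eq_one_iff]
    have hd1 : orderOf (x : G ⧸ K) ∣ orderOf x := orderOf_map_dvd (QuotientGroup.mk' K) x
    have hd2 : orderOf (x : G ⧸ K) ∣ Nat.card H := by
      have h := orderOf_dvd_natCard (x : G ⧸ K)
      rwa [← Subgroup.index_eq_card, hcompl.symm.index_eq_card] at h
    exact Nat.eq_one_of_dvd_coprimes
      (Nat.coprime_of_dvd fun r hr h1 h2 => hx r hr h1 (hH.1 r hr h2)) hd1 hd2

end Cfsg.Agent.PiHom72
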