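import Mathlib.GroupTheory.Sylow
import Mathlib.GroupTheory.SchurZassenhaus
import Cfsg.Prelude.Def_HallClasses

/-!
# Fusion in π-homogeneous groups with the D_π property

If every π-subgroup of `G` has a conjugate inside the π-subgroup `H` and `N(Q)/C(Q)` is a π-group
for every non-trivial π-subgroup `Q`, then two elements of `H` conjugate in `G` are conjugate in
`H`.
-/

set_option autoImplicit false

namespace Cfsg.Agent.PiHom72

open Subgroup

universe u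

variable {G : Type u} [Group G]

/-- The conjugate `g A g⁻¹`. -/
def cj (g : G) (A : Subgroup G) : Subgroup G := A.map (MulAut.conj g).toMonoidHom

theorem mem_cj {g x : G} {A : Subgroup G} : x ∈ cj g A ↔ g⁻¹ * x * g ∈ A := by
  constructor
  · rintro ⟨a, ha, rfl⟩
    simpa [mul_assoc] using ha
  · exact fun h => ⟨_, h, by simp [mul_assoc]⟩

theorem conj_mem_cj {g a : G} {A : Subgroup G} (h : a ∈ A) : g * a * g⁻¹ ∈ cj g A :=
  ⟨a, h, by simp⟩

theorem card_cj (g : G) (A : Subgroup G) : Nat.card (cj g A) = Nat.card A :=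
  Nat.card_congr (A.equivMapOfInjective (MulAut.conj g).toMonoidHom
    (MulEquiv.injective _)).toEquiv.symm

theorem cj_le_iff {g : G} {A B : Subgroup G} : cj g A ≤ B ↔ ∀ a ∈ A, g * a * g⁻¹ ∈ B :=
  ⟨fun h a ha => h (conj_mem_cj ha), fun h => by
    rintro _ ⟨a, ha, rfl⟩
    simpa using h a ha⟩

theorem relIndex_cj (g : G) (A B : Subgroup G) : (cj g A).relIndex (cj g B) = A.relIndex B := by
  rw [cj, cj, ← Subgroup.relIndex_comap, Subgroup.comap_map_eq_self_of_injective]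
  exact MulEquiv.injective _

/-- `g` and `h` induce the same map on `Q`. -/
def Agree (g h : G) (Q : Subgroup G) : Prop := ∀ q ∈ Q, g * q * g⁻¹ = h * q * h⁻¹

theorem mem_normalizer_of_forall [Finite G] {Q : Subgroup G} {g : G}
    (h : ∀ q ∈ Q, g * q * g⁻¹ ∈ Q) : g ∈ normalizer (Q : Set G) := by
  have he : cj g Q = Q := Subgroup.eq_of_le_of_card_ge (cj_le_iff.mpr h) (card_cj g Q).ge
  refine Subgroup.mem_normalizer_iff.mpr fun q => ⟨h q, fun hq => ?_⟩
  have := mem_cj.mp (he.symm ▸ hq : g * q * g⁻¹ ∈ cj g Q)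
  simpa [mul_assoc] using this

theorem conj_mem_of_normalizer {Q : Subgroup G} {g q : G} (hg : g ∈ normalizer (Q : Set G))
    (hq : q ∈ Q) : g * q * g⁻¹ ∈ Q := (Subgroup.mem_normalizer_iff.mp hg q).mp hq

theorem conj_mem_centralizer {Q : Subgroup G} {g c : G} (hg : g ∈ normalizer (Q : Set G))
    (hc : c ∈ centralizer (Q : Set G)) : g * c * g⁻¹ ∈ centralizer (Q : Set G) := by
  refine mem_centralizer_iff.mpr fun q hq => ?_
  have h1 : g⁻¹ * q * g ∈ Q := by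
    simpa using conj_mem_of_normalizer ((normalizer (Q : Set G)).inv_mem hg) hq
  have h2 := mem_centralizer_iff.mp hc _ h1
  calc q * (g * c * g⁻¹) = g * (g⁻¹ * q * g * c) * g⁻¹ := by group
    _ = g * (c * (g⁻¹ * q * g)) * g⁻¹ := by rw [h2]
    _ = g * c * g⁻¹ * q := by group

section Fin

variable [Finite G] {p : ℕ} [Fact p.Prime]

theorem exists_sylow_in (M A : Subgroup G) (hAM : A ≤ M) (hA : IsPGroup p A) :
    ∃ B : Subgroup G, A ≤ B ∧ B ≤ M ∧ IsPGroup p B ∧ ¬ p ∣ B.relIndex M := by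
  obtain ⟨P, hP⟩ := (hA.of_equiv (Subgroup.subgroupOfEquivOfLe hAM).symm).exists_le_sylow
  refine ⟨(P : Subgroup M).map M.subtype, fun a ha => ⟨⟨a, hAM ha⟩, hP ha, rfl⟩,
    Subgroup.map_subtype_le _, P.2.map _, ?_⟩
  have he : ((P : Subgroup M).map M.subtype).subgroupOf M = (P : Subgroup M) :=
    Subgroup.comap_map_eq_self_of_injective M.subtype_injective _
  rw [Subgroup.relIndex, he]
  exact P.not_dvd_index

theorem exists_conj_le {M A B : Subgroup G} (hAM : A ≤ M) (hBM : B ≤ M) (hA : IsPGroup p A)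
    (hB : IsPGroup p B) (hi : ¬ p ∣ B.relIndex M) : ∃ m ∈ M, cj m A ≤ B := by
  obtain ⟨P, hP⟩ := (hA.of_equiv (Subgroup.subgroupOfEquivOfLe hAM).symm).exists_le_sylow
  let Q : Sylow p M := (hB.of_equiv (Subgroup.subgroupOfEquivOfLe hBM).symm).toSylow hi
  obtain ⟨m, hm⟩ := MulAction.exists_smul_eq M P Q
  refine ⟨m, m.2, cj_le_iff.mpr fun a ha => ?_⟩
  have h1 : (MulAut.conj m) ⟨a, hAM ha⟩ ∈ (Q : Subgroup M) := by
    rw [← hm]
    exact Subgroup.smul_mem_pointwise_smul _ _ _ (hP ha)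
  exact (show (m : G) * a * (m : G)⁻¹ ∈ B from Subgroup.mem_subgroupOf.mp h1)

theorem le_of_conj_invariant {M A B : Subgroup G} (hAM : A ≤ M) (hBM : B ≤ M) (hA : IsPGroup p A)
    (hB : IsPGroup p B) (hi : ¬ p ∣ B.relIndex M) (hn : M ≤ normalizer (A : Set G)) : A ≤ B := by
  obtain ⟨m, hm, hmA⟩ := exists_conj_le hAM hBM hA hB hi
  intro a ha
  have h1 : m⁻¹ * a * m ∈ A := by
    simpa using conj_mem_of_normalizer (hn (M.inv_mem hm)) ha
  simpa [mul_assoc] using cj_le_iff.mp hmA _ h1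

/-- A Sylow subgroup of a supplement maps onto the Sylow subgroup of the quotient. -/
theorem sylow_le_sup {N : Type u} [Group N] [Finite N] (C : Subgroup N) [C.Normal]
    (R T K : Subgroup N) (hRT : R ≤ T) (hT : IsPGroup p T) (hRK : R ≤ K)
    (hi : ¬ p ∣ R.relIndex K) (hcov : ∀ n : N, ∃ k ∈ K, k⁻¹ * n ∈ C) : T ≤ R ⊔ C := by
  let f := QuotientGroup.mk' C
  let g : ↥K →* N ⧸ C := f.comp K.subtype
  have hg : Function.Surjective g := by
    intro x
    obtain ⟨n, rfl⟩ := QuotientGroup.mk'_surjective C x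
    obtain ⟨k, hk, hkn⟩ := hcov n
    exact ⟨⟨k, hk⟩, QuotientGroup.eq.mpr hkn⟩
  have h1 : (R.map f).index ∣ R.relIndex K := by
    have h := Subgroup.index_map_dvd (f := g) (R.subgroupOf K) hg
    have he : (R.subgroupOf K).map g = R.map f := by
      rw [← Subgroup.map_map, Subgroup.subgroupOf_map_subtype, inf_eq_left.mpr hRK]
    rwa [he] at h
  have h2 : (R.map f).relIndex (T.map f) = 1 := by
    obtain ⟨n, hn⟩ := IsPGroup.iff_card.mp (hT.map f)
    have hd : (R.map f).relIndex (T.map f) ∣ p ^ n := hn ▸ Subgroup.relIndex_dvd_card _ _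
    obtain ⟨j, -, hj⟩ := (Nat.dvd_prime_pow (Fact.out : p.Prime)).mp hd
    rcases Nat.eq_zero_or_pos j with rfl | hj0
    · simpa using hj
    · refine absurd ((dvd_trans (dvd_pow_self p hj0.ne') ?_).trans h1) hi
      rw [← hj]
      exact Dvd.intro _ (Subgroup.relIndex_mul_index (Subgroup.map_mono hRT))
  have h3 : T.map f ≤ R.map f := Subgroup.relIndex_eq_one.mp h2
  intro t ht
  have := h3 (Subgroup.mem_map_of_mem f ht)
  rw [← Subgroup.mem_comap, Subgroup.comap_map_eq, QuotientGroup.ker_mk'] at this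
  exact this

/-- A π-subgroup of `N(Q)` through `Q` covering `N(Q)/C(Q)`. -/
theorem exists_cover {π : Set ℕ} (hpπ : p ∈ π) {Q : Subgroup G} (hQ : IsPGroup p Q)
    (hhom : ∀ r : ℕ, r.Prime →
      r ∣ (centralizer (Q : Set G)).relIndex (normalizer (Q : Set G)) → r ∈ π) :
    ∃ K : Subgroup G, Q ≤ K ∧ K ≤ normalizer (Q : Set G) ∧ Cfsg.IsPiSubgroup π K ∧
      ∀ n ∈ normalizer (Q : Set G), ∃ k ∈ K, k⁻¹ * n ∈ centralizer (Q : Set G) := by
  classical
  set N := normalizer (Q : Set G)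
  set C := centralizer (Q : Set G) with hC
  obtain ⟨K, ⟨hQK, hKN, hcov⟩, hmin⟩ := Set.Finite.exists_minimal
    (Set.toFinite {K : Subgroup G | Q ≤ K ∧ K ≤ N ∧ ∀ n ∈ N, ∃ k ∈ K, k⁻¹ * n ∈ C})
    ⟨N, Subgroup.le_normalizer, le_rfl, fun n hn => ⟨n, hn, by simp [C.one_mem]⟩⟩
  refine ⟨K, hQK, hKN, fun r hr hrK => ?_, hcov⟩
  by_contra hrπ
  have hrp : r ≠ p := fun h => hrπ (h ▸ hpπ)
  haveI : Fact r.Prime := ⟨hr⟩
  obtain ⟨R, -, hRK, hR, hRi⟩ := exists_sylow_in (p := r) K ⊥ bot_le IsPGroup.of_bot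
  -- `R` centralizes `Q`
  have hCn : (C.subgroupOf N).Normal :=
    ⟨fun x hx y => conj_mem_centralizer (g := (y : G)) y.2 hx⟩
  have hRC : R ≤ C := by
    intro x hx
    have hxN : x ∈ N := hKN (hRK hx)
    obtain ⟨n, hn⟩ := hR ⟨x, hx⟩
    have hn' : x ^ r ^ n = 1 := congrArg Subtype.val hn
    have hcopr : (r ^ n).Coprime (C.relIndex N) := Nat.Coprime.pow_left _
      (hr.coprime_iff_not_dvd.mpr fun h => hrπ (hhom r hr h))
    have h1 : ((⟨x, hxN⟩ : N) : N ⧸ C.subgroupOf N) ^ (r ^ n) = 1 := by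
      rw [← QuotientGroup.mk_pow]
      exact (QuotientGroup.eq_one_iff _).mpr (by simp [Subgroup.mem_subgroupOf, hn'])
    have h2 : ((⟨x, hxN⟩ : N) : N ⧸ C.subgroupOf N) ^ C.relIndex N = 1 :=
      pow_card_eq_one'
    have h3 := pow_gcd_eq_one.mpr ⟨h1, h2⟩
    rw [hcopr.gcd_eq_one, pow_one] at h3
    exact Subgroup.mem_subgroupOf.mp ((QuotientGroup.eq_one_iff _).mp h3)
  -- minimality makes `R` normal in `K`
  have hKR : K ≤ normalizer (R : Set G) := by
    have hmem : K ⊓ normalizer (R : Set G) ∈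
        {K : Subgroup G | Q ≤ K ∧ K ≤ N ∧ ∀ n ∈ N, ∃ k ∈ K, k⁻¹ * n ∈ C} := by
      refine ⟨le_inf hQK fun q hq => mem_normalizer_of_forall fun y hy => ?_,
        inf_le_left.trans hKN, fun n hn => ?_⟩
      · have := mem_centralizer_iff.mp (hRC hy) q hq
        rw [this, mul_inv_cancel_right]
        exact hy
      · obtain ⟨k, hk, hkn⟩ := hcov n hn
        have hRK' : cj k R ≤ K ⊓ C := cj_le_iff.mpr fun y hy =>
          ⟨K.mul_mem (K.mul_mem hk (hRK hy)) (K.inv_mem hk),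
            conj_mem_centralizer (hKN hk) (hRC hy)⟩
        have hi' : ¬ r ∣ R.relIndex (K ⊓ C) := fun h => hRi (h.trans
          (Dvd.intro _ (Subgroup.relIndex_mul_relIndex R (K ⊓ C) K (le_inf hRK hRC) inf_le_left)))
        obtain ⟨m, hm, hmk⟩ := exists_conj_le hRK' (le_inf hRK hRC)
          (IsPGroup.of_card (n := (Nat.card R).factorization r) (by
            obtain ⟨j, hj⟩ := IsPGroup.iff_card.mp hR
            rw [card_cj, hj, Nat.Prime.factorization_pow hr, Finsupp.single_eq_same]))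
          hR hi'
        refine ⟨m * k, ⟨K.mul_mem hm.1 hk, mem_normalizer_of_forall fun y hy => ?_⟩, ?_⟩
        · simpa [mul_assoc] using cj_le_iff.mp hmk _ (conj_mem_cj (g := k) hy)
        · have h1 : k⁻¹ * m⁻¹ * k ∈ C := by
            simpa using conj_mem_centralizer (N.inv_mem (hKN hk)) (C.inv_mem hm.2)
          have := C.mul_mem h1 hkn
          simpa [mul_assoc] using this
    exact fun x hx => (hmin hmem inf_le_left hx).2
  -- split `R` off
  haveI : (R.subgroupOf K).Normal :=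
    ⟨fun x hx y => Subgroup.mem_subgroupOf.mpr
      (conj_mem_of_normalizer (Q := R) (g := (y : G)) (q := (x : G)) (hKR y.2) hx)⟩
  have hcard : Nat.card (R.subgroupOf K) = Nat.card R :=
    Nat.card_congr (Subgroup.subgroupOfEquivOfLe hRK).toEquiv
  obtain ⟨j, hj⟩ := IsPGroup.iff_card.mp hR
  obtain ⟨L, hL⟩ := Subgroup.exists_right_complement'_of_coprime (N := R.subgroupOf K) (by
    rw [hcard, hj]
    exact Nat.Coprime.pow_left _ (hr.coprime_iff_not_dvd.mpr hRi))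
  have hLindex : L.index = Nat.card R := by rw [hL.index_eq_card, hcard]
  set L' := L.map K.subtype with hL'
  have hmem : L' ∈ {K : Subgroup G | Q ≤ K ∧ K ≤ N ∧ ∀ n ∈ N, ∃ k ∈ K, k⁻¹ * n ∈ C} := by
    have hL'K : L' ≤ K := Subgroup.map_subtype_le _
    refine ⟨?_, hL'K.trans hKN, fun n hn => ?_⟩
    · obtain ⟨B, -, hBL, hB, hBi⟩ := exists_sylow_in (p := p) L' ⊥ bot_le IsPGroup.of_bot
      refine (le_of_conj_invariant hQK (hBL.trans hL'K) hQ hB ?_ hKN).trans hBL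
      rw [← Subgroup.relIndex_mul_relIndex B L' K hBL hL'K]
      refine (Fact.out : p.Prime).not_dvd_mul hBi ?_
      have he : L'.relIndex K = L.index := by
        rw [Subgroup.relIndex, hL', Subgroup.subgroupOf,
          Subgroup.comap_map_eq_self_of_injective K.subtype_injective]
      rw [he, hLindex, hj]
      exact fun h => hrp ((Nat.prime_dvd_prime_iff_eq Fact.out hr).mp
        ((Fact.out : p.Prime).dvd_of_dvd_pow h)).symm
    · obtain ⟨k, hk, hkn⟩ := hcov n hn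
      obtain ⟨⟨⟨x, hx⟩, ⟨l, hl⟩⟩, hxl⟩ := hL.2 ⟨k, hk⟩
      have hxl' : (x : G) * (l : G) = k := congrArg Subtype.val hxl
      refine ⟨l, ⟨l, hl, rfl⟩, ?_⟩
      have h1 : (l : G)⁻¹ * n = ((l : G)⁻¹ * (x : G) * (l : G)) * (k⁻¹ * n) := by
        rw [← hxl']; group
      rw [h1]
      refine C.mul_mem ?_ hkn
      simpa using conj_mem_centralizer (N.inv_mem (hKN (l : ↥K).2)) (hRC hx)
  have hle : K ≤ L' := hmin hmem (Subgroup.map_subtype_le _)
  have hR1 : Nat.card R = 1 := by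
    rw [← hLindex, Subgroup.index_eq_one, eq_top_iff]
    intro x _
    obtain ⟨y, hy, hyx⟩ := hle x.2
    rwa [← K.subtype_injective hyx]
  refine hRi ?_
  rw [Subgroup.card_eq_one.mp hR1, Subgroup.relIndex_bot_left]
  exact hrK

/-- Every π-subgroup has a conjugate in `H`. -/
def Dom (π : Set ℕ) (H : Subgroup G) : Prop :=
  Cfsg.IsPiSubgroup π H ∧ ∀ K : Subgroup G, Cfsg.IsPiSubgroup π K → ∃ g : G, cj g K ≤ H

/-- `N(Q)/C(Q)` is a π-group for every non-trivial π-subgroup `Q`. -/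
def Hom (π : Set ℕ) (G : Type u) [Group G] : Prop :=
  ∀ H : Subgroup G, H ≠ ⊥ → Cfsg.IsPiSubgroup π H →
    ∀ r : ℕ, r.Prime → r ∣ (centralizer (H : Set G)).relIndex (normalizer (H : Set G)) → r ∈ π

variable {π : Set ℕ} {H : Subgroup G}

omit [Finite G] in
theorem piSubgroup_of_pGroup [Finite G] (hpπ : p ∈ π) {Q : Subgroup G} (hQ : IsPGroup p Q) :
    Cfsg.IsPiSubgroup π Q := by
  intro r hr hd
  obtain ⟨j, hj⟩ := IsPGroup.iff_card.mp hQ
  rw [hj] at hd
  exact (Nat.prime_dvd_prime_iff_eq hr Fact.out).mp (hr.dvd_of_dvd_pow hd) ▸ hpπ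

theorem exists_sylow_le (hpπ : p ∈ π) (hD : Dom π H) :
    ∃ P : Subgroup G, P ≤ H ∧ IsPGroup p P ∧ ¬ p ∣ P.index := by
  obtain ⟨P⟩ := (inferInstance : Nonempty (Sylow p G))
  obtain ⟨g, hg⟩ := hD.2 P (piSubgroup_of_pGroup hpπ P.2)
  refine ⟨cj g P, hg, P.2.map _, ?_⟩
  rw [show (cj g (P : Subgroup G)).index = (P : Subgroup G).index from
    Subgroup.index_map_equiv (P : Subgroup G) (MulAut.conj g)]
  exact P.not_dvd_index

/-- A Sylow subgroup of `H ⊓ N(Q)` equal to `Q` forces `Q` to be Sylow in `G`. -/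
theorem sylow_of_normalizer (hpπ : p ∈ π) (hD : Dom π H) {Q : Subgroup G} (hQH : Q ≤ H)
    (hQ : IsPGroup p Q) (hi : ¬ p ∣ Q.relIndex (H ⊓ normalizer (Q : Set G))) : ¬ p ∣ Q.index := by
  obtain ⟨P, hPH, hP, hPi⟩ := exists_sylow_le hpπ hD
  obtain ⟨h, hh, hhQ⟩ := exists_conj_le hQH hPH hQ hP
    (fun hd => hPi (hd.trans (Dvd.intro _ (Subgroup.relIndex_mul_index hPH))))
  have hQP : Q ≤ cj h⁻¹ P := fun q hq => mem_cj.mpr (by simpa using cj_le_iff.mp hhQ q hq)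
  have hPh : cj h⁻¹ P ≤ H := cj_le_iff.mpr fun a ha =>
    H.mul_mem (H.mul_mem (H.inv_mem hh) (hPH ha)) (H.inv_mem (H.inv_mem hh))
  have hP' : IsPGroup p (cj h⁻¹ P) := hP.map _
  haveI := hP'.isNilpotent
  have hnc := normalizerCondition_of_isNilpotent (G := cj h⁻¹ P)
  by_cases heq : Q.subgroupOf (cj h⁻¹ P) = ⊤
  · have : Q = cj h⁻¹ P := le_antisymm hQP (Subgroup.subgroupOf_eq_top.mp heq)
    rw [this, show (cj h⁻¹ P).index = P.index from
      Subgroup.index_map_equiv P (MulAut.conj h⁻¹)]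
    exact hPi
  · exfalso
    have hlt := hnc _ (lt_top_iff_ne_top.mpr heq)
    obtain ⟨y, hy, hyQ⟩ := SetLike.exists_of_lt hlt
    have hyN : (y : G) ∈ normalizer (Q : Set G) := mem_normalizer_of_forall fun q hq =>
      Subgroup.mem_subgroupOf.mp
        (conj_mem_of_normalizer (Q := Q.subgroupOf (cj h⁻¹ P)) (q := ⟨q, hQP hq⟩) hy hq)
    set T := Q ⊔ Subgroup.zpowers (y : G)
    have hTle : T ≤ cj h⁻¹ P := sup_le hQP (Subgroup.zpowers_le.mpr y.2)
    have hTM : T ≤ H ⊓ normalizer (Q : Set G) :=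
      sup_le (le_inf hQH Subgroup.le_normalizer)
        (Subgroup.zpowers_le.mpr ⟨hPh y.2, hyN⟩)
    have := le_of_conj_invariant (M := T) (A := T) (B := Q) le_rfl le_sup_left (hP'.to_le hTle) hQ
      (fun hd => hi (hd.trans (Dvd.intro _ (Subgroup.relIndex_mul_relIndex Q T _ le_sup_left hTM))))
      Subgroup.le_normalizer
    exact hyQ (this (Subgroup.mem_sup_right (Subgroup.mem_zpowers _)))

/-- Automorphisms of a fully normalised subgroup come from `H`. -/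
theorem aut_step (hpπ : p ∈ π) (hD : Dom π H) (hG : Hom π G) {Q T : Subgroup G}
    (hQT : Q ≤ T) (hTH : T ≤ H) (hT : IsPGroup p T) (hTN : T ≤ normalizer (Q : Set G))
    (hTi : ¬ p ∣ T.relIndex (normalizer (Q : Set G)))
    (ih : ∀ R : Subgroup G, R ≤ H → IsPGroup p R → Nat.card Q < Nat.card R →
      ∀ g : G, cj g R ≤ H → ∃ h ∈ H, Agree g h R)
    {n : G} (hn : n ∈ normalizer (Q : Set G)) : ∃ h ∈ H, Agree n h Q := by
  by_cases hQ1 : Q = ⊥
  · exact ⟨1, H.one_mem, fun q hq => by rw [hQ1, Subgroup.mem_bot] at hq; subst hq; simp⟩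
  set N := normalizer (Q : Set G) with hN
  set C := centralizer (Q : Set G) with hC
  have hQ : IsPGroup p Q := hT.to_le hQT
  have hQH : Q ≤ H := hQT.trans hTH
  have hCN : C ≤ N := fun c hc => mem_normalizer_of_forall fun q hq => by
    rw [← mem_centralizer_iff.mp hc q hq, mul_inv_cancel_right]; exact hq
  haveI hCn : (C.subgroupOf N).Normal :=
    ⟨fun x hx y => conj_mem_centralizer (g := (y : G)) y.2 hx⟩
  -- `S = T ⊓ C` is a Sylow subgroup of `C`
  set S := T ⊓ C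
  by_cases hSQ : S ≤ Q
  swap
  · have hSi : ¬ p ∣ S.relIndex C := fun h => hTi (h.trans (by
      rw [show S.relIndex C = T.relIndex C from Subgroup.inf_relIndex_right T C,
        ← Subgroup.relIndex_subgroupOf (H := T) hCN,
        show T.relIndex N = (T.subgroupOf N).index from rfl]
      set T' := T.subgroupOf N
      set C' := C.subgroupOf N
      have h1 := Subgroup.relIndex_mul_relIndex (T' ⊓ C') T' (T' ⊔ C') inf_le_left le_sup_left
      have h2 := Subgroup.relIndex_mul_relIndex (T' ⊓ C') C' (T' ⊔ C') inf_le_right le_sup_right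
      rw [Subgroup.inf_relIndex_left] at h1
      rw [Subgroup.inf_relIndex_right, Subgroup.relIndex_sup_right, ← h1,
        mul_comm (C'.relIndex T')] at h2
      have h3 := Nat.eq_of_mul_eq_mul_right (Nat.pos_of_ne_zero (Subgroup.index_ne_zero_of_finite))
        h2
      rw [h3]
      exact Dvd.intro _ (Subgroup.relIndex_mul_index le_sup_left)))
    have hSp : IsPGroup p S := hT.to_le inf_le_left
    have hS' : cj n S ≤ C :=
      cj_le_iff.mpr fun y hy => conj_mem_centralizer hn hy.2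
    obtain ⟨c, hc, hcS⟩ := exists_conj_le hS' inf_le_right (hSp.map _) hSp hSi
    have hm : c * n ∈ N := N.mul_mem (hCN hc) hn
    have hbig : Nat.card Q < Nat.card (Q ⊔ S : Subgroup G) := by
      refine lt_of_le_of_ne (Subgroup.card_le_of_le le_sup_left) fun h => hSQ ?_
      rw [Subgroup.eq_of_le_of_card_ge le_sup_left h.ge]
      exact le_sup_right
    obtain ⟨h, hh, hag⟩ := ih (Q ⊔ S) (sup_le hQH (inf_le_left.trans hTH))
      (hT.to_le (sup_le hQT inf_le_left)) hbig (c * n) (by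
        rw [cj, Subgroup.map_sup]
        refine sup_le ?_ ?_
        · exact cj_le_iff.mpr fun q hq => hQH (conj_mem_of_normalizer hm hq)
        · refine cj_le_iff.mpr fun y hy => hTH ?_
          have := (cj_le_iff.mp hcS _ (conj_mem_cj (g := n) hy)).1
          simpa [mul_assoc] using this)
    refine ⟨h, hh, fun q hq => ?_⟩
    rw [← hag q (Subgroup.mem_sup_left hq)]
    have h1 := mem_centralizer_iff.mp hc _ (conj_mem_of_normalizer hn hq)
    calc n * q * n⁻¹ = (n * q * n⁻¹ * c) * c⁻¹ := by group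
      _ = (c * (n * q * n⁻¹)) * c⁻¹ := by rw [h1]
      _ = c * n * q * (c * n)⁻¹ := by group
  -- a covering π-subgroup containing `T`
  have hQπ := piSubgroup_of_pGroup hpπ hQ
  obtain ⟨K, hQK, hKN, hKπ, hcov⟩ := exists_cover hpπ hQ (hG Q hQ1 hQπ)
  obtain ⟨R, hQR, hRK, hR, hRi⟩ := exists_sylow_in (p := p) K Q hQK hQ
  obtain ⟨m, hm, hmR⟩ := exists_conj_le (hRK.trans hKN) hTN hR hT hTi
  set K₂ := cj m K with hK₂
  have hK₂N : K₂ ≤ N := cj_le_iff.mpr fun k hk => N.mul_mem (N.mul_mem hm (hKN hk)) (N.inv_mem hm)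
  have hK₂π : Cfsg.IsPiSubgroup π K₂ := fun r hr hd => hKπ r hr (by rwa [hK₂, card_cj] at hd)
  have hcov₂ : ∀ x ∈ N, ∃ k ∈ K₂, k⁻¹ * x ∈ C := by
    intro x hx
    obtain ⟨k, hk, hkx⟩ := hcov (m⁻¹ * x * m) (N.mul_mem (N.mul_mem (N.inv_mem hm) hx) hm)
    refine ⟨m * k * m⁻¹, conj_mem_cj hk, ?_⟩
    have h1 : (m * k * m⁻¹)⁻¹ * x = m * (k⁻¹ * (m⁻¹ * x * m)) * m⁻¹ := by group
    rw [h1]
    exact conj_mem_centralizer hm hkx
  have hQR₂ : Q ≤ cj m R := fun q hq => mem_cj.mpr (hQR (by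
    simpa using conj_mem_of_normalizer (N.inv_mem hm) hq))
  have hTK₂ : T ≤ K₂ := by
    have hmRK : cj m R ≤ K₂ := Subgroup.map_mono hRK
    have h1 := sylow_le_sup (p := p) (C.subgroupOf N) ((cj m R).subgroupOf N) (T.subgroupOf N)
      (K₂.subgroupOf N) (fun x hx => hmR hx) (hT.of_equiv (Subgroup.subgroupOfEquivOfLe hTN).symm)
      (fun x hx => hmRK hx) (by rwa [Subgroup.relIndex_subgroupOf hK₂N, hK₂, relIndex_cj])
      (fun x => by
        obtain ⟨k, hk, hkx⟩ := hcov₂ x x.2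
        exact ⟨⟨k, hK₂N hk⟩, hk, hkx⟩)
    intro t ht
    have h2 := h1 (Subgroup.mem_subgroupOf.mpr ht : (⟨t, hTN ht⟩ : N) ∈ T.subgroupOf N)
    obtain ⟨r, hr, c, hc, hrc⟩ := Subgroup.mem_sup_of_normal_right.mp h2
    have hrc' : (r : G) * (c : G) = t := congrArg Subtype.val hrc
    have hcT : (c : G) ∈ T := by
      rw [show (c : G) = (r : G)⁻¹ * t by rw [← hrc']; group]
      exact T.mul_mem (T.inv_mem (hmR hr)) ht
    rw [← hrc']
    exact hmRK ((cj m R).mul_mem hr (hQR₂ (hSQ ⟨hcT, hc⟩)))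
  obtain ⟨g, hg⟩ := hD.2 K₂ hK₂π
  -- find `c` in `C` with `cj c⁻¹ K₂ ≤ H`
  obtain ⟨c, hc, hcK⟩ : ∃ c ∈ C, ∀ k ∈ K₂, c⁻¹ * k * c ∈ H := by
    rcases lt_or_eq_of_le (Subgroup.card_le_of_le hQT) with hlt | heq
    · obtain ⟨h₁, hh₁, hag⟩ := ih T hTH hT hlt g ((Subgroup.map_mono hTK₂).trans hg)
      refine ⟨g⁻¹ * h₁, mem_centralizer_iff.mpr fun q hq => ?_, fun k hk => ?_⟩
      · have h2 := hag q (hQT hq)
        calc q * (g⁻¹ * h₁) = g⁻¹ * (g * q * g⁻¹) * h₁ := by group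
          _ = g⁻¹ * (h₁ * q * h₁⁻¹) * h₁ := by rw [h2]
          _ = g⁻¹ * h₁ * q := by group
      · have h3 := H.mul_mem (H.mul_mem (H.inv_mem hh₁) (cj_le_iff.mp hg k hk)) hh₁
        simpa [mul_assoc] using h3
    · have hQT' : Q = T := Subgroup.eq_of_le_of_card_ge hQT heq.ge
      have hQi : ¬ p ∣ Q.relIndex H := by
        have h4 : ¬ p ∣ Q.index := sylow_of_normalizer hpπ hD hQH hQ fun hd => hTi (by
          rw [← hQT']
          exact hd.trans (Dvd.intro _ (Subgroup.relIndex_mul_relIndex Q _ N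
            (le_inf hQH Subgroup.le_normalizer) inf_le_right)))
        exact fun hd => h4 (hd.trans (Dvd.intro _ (Subgroup.relIndex_mul_index hQH)))
      obtain ⟨h₀, hh₀, hh₀Q⟩ := exists_conj_le (A := cj g Q)
        ((Subgroup.map_mono (hQT.trans hTK₂)).trans hg) hQH (hQ.map _) hQ hQi
      have hz : (h₀ * g)⁻¹ ∈ N := N.inv_mem (mem_normalizer_of_forall fun q hq => by
        simpa [mul_assoc] using cj_le_iff.mp hh₀Q _ (conj_mem_cj (g := g) hq))
      obtain ⟨k₀, hk₀, hk₀z⟩ := hcov₂ _ hz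
      refine ⟨k₀⁻¹ * (h₀ * g)⁻¹, hk₀z, fun k hk => ?_⟩
      have h3 := H.mul_mem (H.mul_mem hh₀
        (cj_le_iff.mp hg _ (K₂.mul_mem (K₂.mul_mem hk₀ hk) (K₂.inv_mem hk₀)))) (H.inv_mem hh₀)
      simpa [mul_assoc] using h3
  obtain ⟨k, hk, hkn⟩ := hcov₂ n hn
  refine ⟨c⁻¹ * k * c, hcK k hk, fun q hq => ?_⟩
  have e1 : c * q * c⁻¹ = q := by rw [← mem_centralizer_iff.mp hc q hq, mul_inv_cancel_right]
  have e2 : c⁻¹ * (k * q * k⁻¹) * c = k * q * k⁻¹ := by
    rw [mul_assoc, mem_centralizer_iff.mp hc _ (conj_mem_of_normalizer (hK₂N hk) hq),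
      inv_mul_cancel_left]
  have e3 : k⁻¹ * n * q * (k⁻¹ * n)⁻¹ = q := by
    rw [← mem_centralizer_iff.mp hkn q hq, mul_inv_cancel_right]
  calc n * q * n⁻¹ = k * (k⁻¹ * n * q * (k⁻¹ * n)⁻¹) * k⁻¹ := by group
    _ = k * q * k⁻¹ := by rw [e3]
    _ = c⁻¹ * (k * (c * q * c⁻¹) * k⁻¹) * c := by rw [e1, e2]
    _ = c⁻¹ * k * c * q * (c⁻¹ * k * c)⁻¹ := by group

/-- Transport to a fully normalised conjugate. -/
theorem move_step (hpπ : p ∈ π) (hD : Dom π H) (hG : Hom π G) {Q T₁ T₀ : Subgroup G}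
    (hQH : Q ≤ H) (hQ : IsPGroup p Q) (hQ1 : Q ≤ T₁) (h10 : T₁ ≤ T₀) (hT₁H : T₁ ≤ H)
    (hT₁ : ¬ p ∣ T₁.relIndex (H ⊓ normalizer (Q : Set G))) (hT₁p : IsPGroup p T₁)
    (ih : ∀ R : Subgroup G, R ≤ H → IsPGroup p R → Nat.card Q < Nat.card R →
      ∀ g : G, cj g R ≤ H → ∃ h ∈ H, Agree g h R)
    {w : G} (hw : cj w T₀ ≤ H) : ∃ h ∈ H, Agree w h Q := by
  rcases lt_or_eq_of_le (Subgroup.card_le_of_le hQ1) with hlt | heq
  · obtain ⟨h, hh, hag⟩ := ih T₁ hT₁H hT₁p hlt w ((Subgroup.map_mono h10).trans hw)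
    exact ⟨h, hh, fun q hq => hag q (hQ1 hq)⟩
  have he : Q = T₁ := Subgroup.eq_of_le_of_card_ge hQ1 heq.ge
  rw [← he] at hT₁
  have hQi := sylow_of_normalizer hpπ hD hQH hQ hT₁
  obtain ⟨h₀, hh₀, hh₀Q⟩ := exists_conj_le (A := cj w Q)
    ((Subgroup.map_mono (hQ1.trans h10)).trans hw) hQH (hQ.map _) hQ
    (fun hd => hQi (hd.trans (Dvd.intro _ (Subgroup.relIndex_mul_index hQH))))
  have hn : h₀ * w ∈ normalizer (Q : Set G) := mem_normalizer_of_forall fun q hq => by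
    simpa [mul_assoc] using cj_le_iff.mp hh₀Q _ (conj_mem_cj (g := w) hq)
  obtain ⟨h, hh, hag⟩ := aut_step hpπ hD hG (le_refl Q) hQH hQ Subgroup.le_normalizer
    (fun hd => hQi (hd.trans (Dvd.intro _ (Subgroup.relIndex_mul_index Subgroup.le_normalizer))))
    ih hn
  refine ⟨h₀⁻¹ * h, H.mul_mem (H.inv_mem hh₀) hh, fun q hq => ?_⟩
  calc w * q * w⁻¹ = h₀⁻¹ * (h₀ * w * q * (h₀ * w)⁻¹) * h₀ := by group
    _ = h₀⁻¹ * (h * q * h⁻¹) * h₀ := by rw [hag q hq]
    _ = h₀⁻¹ * h * q * (h₀⁻¹ * h)⁻¹ := by group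

theorem fusion_aux (hpπ : p ∈ π) (hD : Dom π H) (hG : Hom π G) : ∀ (m : ℕ) (Q : Subgroup G),
    Nat.card G - Nat.card Q < m → Q ≤ H → IsPGroup p Q →
      ∀ g : G, cj g Q ≤ H → ∃ h ∈ H, Agree g h Q := by
  intro m
  induction m with
  | zero => intro Q h; omega
  | succ m ih' =>
  intro Q hm hQH hQ g hg
  have ih : ∀ R : Subgroup G, R ≤ H → IsPGroup p R → Nat.card Q < Nat.card R →
      ∀ g : G, cj g R ≤ H → ∃ h ∈ H, Agree g h R := fun R hR hRp hlt => ih' R (by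
    have := Subgroup.card_le_card_group R
    omega) hR hRp
  obtain ⟨P, hPH, hP, hPi⟩ := exists_sylow_le hpπ hD
  set N := normalizer (Q : Set G)
  obtain ⟨T₁, hQT₁, hT₁le, hT₁p, hT₁i⟩ :=
    exists_sylow_in (p := p) (H ⊓ N) Q (le_inf hQH Subgroup.le_normalizer) hQ
  obtain ⟨T₀, h10, hT₀N, hT₀p, hT₀i⟩ :=
    exists_sylow_in (p := p) N T₁ (hT₁le.trans inf_le_right) hT₁p
  obtain ⟨w, -, hwT⟩ := exists_conj_le (M := ⊤) le_top le_top hT₀p hP
    (by rwa [Subgroup.relIndex_top_right])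
  have hwH : cj w T₀ ≤ H := hwT.trans hPH
  obtain ⟨h₁, hh₁, hag₁⟩ :=
    move_step hpπ hD hG hQH hQ hQT₁ h10 (hT₁le.trans inf_le_left) hT₁i hT₁p ih hwH
  -- the image `R = g Q g⁻¹`
  set R := cj g Q with hR
  set M := normalizer (R : Set G)
  have hRp : IsPGroup p R := hQ.map _
  have hRcard : Nat.card R = Nat.card Q := card_cj g Q
  obtain ⟨U₁, hRU₁, hU₁le, hU₁p, hU₁i⟩ :=
    exists_sylow_in (p := p) (H ⊓ M) R (le_inf hg Subgroup.le_normalizer) hRp
  have hNM : cj g N = M := Subgroup.map_equiv_normalizer_eq Q (MulAut.conj g)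
  obtain ⟨j, hj, hjU⟩ := exists_conj_le (M := M) (hU₁le.trans inf_le_right)
    (hNM ▸ Subgroup.map_mono hT₀N : cj g T₀ ≤ M) hU₁p (hT₀p.map _)
    (by rwa [← hNM, relIndex_cj])
  obtain ⟨h₂, hh₂, hag₂⟩ := move_step hpπ hD hG hg hRp hRU₁
    (T₀ := cj j⁻¹ (cj g T₀)) (fun u hu => mem_cj.mpr (by simpa using cj_le_iff.mp hjU u hu))
    (hU₁le.trans inf_le_left) hU₁i hU₁p
    (fun R' h1 h2 h3 => ih R' h1 h2 (by omega)) (w := w * g⁻¹ * j) (by
      refine cj_le_iff.mpr fun x hx => hwH ?_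
      obtain ⟨y, hy, rfl⟩ := hx
      obtain ⟨z, hz, rfl⟩ := hy
      exact ⟨z, hz, by simp; group⟩)
  -- the remaining automorphism of the fully normalised conjugate
  have hQw : cj w Q ≤ cj w T₀ := Subgroup.map_mono (hQT₁.trans h10)
  have hNw : cj w N = normalizer (cj w Q : Set G) :=
    Subgroup.map_equiv_normalizer_eq Q (MulAut.conj w)
  have hnmem : w * g⁻¹ * j * g * w⁻¹ ∈ normalizer (cj w Q : Set G) := by
    refine mem_normalizer_of_forall fun x hx => mem_cj.mpr ?_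
    have h1 : g * (w⁻¹ * x * w) * g⁻¹ ∈ R := conj_mem_cj (mem_cj.mp hx)
    have h2 := mem_cj.mp (conj_mem_of_normalizer hj h1)
    simpa [mul_assoc] using h2
  obtain ⟨h₃, hh₃, hag₃⟩ := aut_step hpπ hD hG hQw hwH (hT₀p.map _)
    (hNw ▸ Subgroup.map_mono hT₀N) (by rwa [← hNw, relIndex_cj])
    (fun R' h1 h2 h3 => ih R' h1 h2 (by rwa [card_cj] at h3)) hnmem
  refine ⟨h₂⁻¹ * h₃ * h₁, H.mul_mem (H.mul_mem (H.inv_mem hh₂) hh₃) hh₁, fun q hq => ?_⟩
  have e1 := hag₁ q hq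
  have e2 := hag₂ _ (conj_mem_cj (g := g) hq)
  have e3 := hag₃ _ (conj_mem_cj (g := w) hq)
  have e4 : g * q * g⁻¹ = h₂⁻¹ * (h₂ * (g * q * g⁻¹) * h₂⁻¹) * h₂ := by group
  rw [e4, ← e2]
  have e5 : w * g⁻¹ * j * (g * q * g⁻¹) * (w * g⁻¹ * j)⁻¹ =
      w * g⁻¹ * j * g * w⁻¹ * (w * q * w⁻¹) * (w * g⁻¹ * j * g * w⁻¹)⁻¹ := by group
  rw [e5, e3, e1]
  group

theorem fusion_pElement (hpπ : p ∈ π) (hD : Dom π H) (hG : Hom π G) {a g : G} (ha : a ∈ H)
    (hga : g * a * g⁻¹ ∈ H) (hp : ∃ k : ℕ, orderOf a = p ^ k) :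
    ∃ h ∈ H, h * a * h⁻¹ = g * a * g⁻¹ := by
  obtain ⟨k, hk⟩ := hp
  obtain ⟨h, hh, hag⟩ := fusion_aux hpπ hD hG (Nat.card G + 1) (Subgroup.zpowers a)
    (by omega) (Subgroup.zpowers_le.mpr ha)
    (IsPGroup.of_card (n := k) (by rw [Nat.card_zpowers, hk])) g
    (by rw [cj, MonoidHom.map_zpowers, Subgroup.zpowers_le]; simpa using hga)
  exact ⟨h, hh, (hag a (Subgroup.mem_zpowers a)).symm⟩

end Fin

end Cfsg.Agent.PiHom72
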